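import Groth.Agent.L13.Fitting.BaseChange
import Groth.Agent.L13.Fitting.Prod
import Groth.Prelude.Def_FlatCA
import Mathlib.RingTheory.Unramified.Basic
import Mathlib.RingTheory.TensorProduct.Quotient
import Mathlib.RingTheory.Ideal.IdempotentFG
import Mathlib.RingTheory.Localization.Away.Basic
import Mathlib.RingTheory.Etale.Basic
import Mathlib.Algebra.Module.FinitePresentation

/-!
The extension of a Fitting ideal along an étale localization of a finite algebra is divisible by the ideal.
-/

set_option autoImplicit false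
universe u

open TensorProduct

namespace Groth.L15.FittEtale

/-- The Fitting ideal of a cyclic module. -/
theorem fitting_quotient {R : Type u} [CommRing R] (I : Ideal R) : Fitt.ideal R (R ⧸ I) 0 = I := by
  have hx : Submodule.span R (Set.range fun _ : Fin 1 => (1 : R ⧸ I)) = ⊤ := by
    refine top_unique fun y _ => ?_
    obtain ⟨r, rfl⟩ := Ideal.Quotient.mk_surjective y
    have : Ideal.Quotient.mk I r = r • (1 : R ⧸ I) := by
      rw [Algebra.smul_def, mul_one]; rfl
    rw [this]
    exact Submodule.smul_mem _ _ (Submodule.subset_span ⟨0, rfl⟩)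
  refine le_antisymm ?_ fun r hr => ?_
  · refine Ideal.span_le.2 ?_
    rintro _ ⟨n, x, a, hsp, hrel, rfl⟩
    have h1 : (1 : R ⧸ I) ∈ Submodule.span R (Set.range x) := hsp ▸ Submodule.mem_top
    obtain ⟨c, hc⟩ := (Submodule.mem_span_range_iff_exists_fun R).1 h1
    have hz : ∀ j, a.det • x j = 0 := fun j => by
      have h2 : ∑ i, a.adjugate j i • ∑ l, a i l • x l = 0 :=
        Finset.sum_eq_zero fun i _ => by rw [hrel i (by simp), smul_zero]
      simp only [Finset.smul_sum, smul_smul] at h2
      rw [Finset.sum_comm] at h2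
      simp only [← Finset.sum_smul] at h2
      have h3 : ∀ l, (∑ i, a.adjugate j i * a i l) = if j = l then a.det else 0 := fun l => by
        have := congrFun (congrFun (Matrix.adjugate_mul a) j) l
        simpa [Matrix.mul_apply, Matrix.one_apply] using this
      simp only [h3, ite_smul, zero_smul, Finset.sum_ite_eq, Finset.mem_univ, if_true] at h2
      exact h2
    have h4 : a.det • (1 : R ⧸ I) = 0 := by
      rw [← hc, Finset.smul_sum]
      exact Finset.sum_eq_zero fun j _ => by rw [smul_comm, hz, smul_zero]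
    rw [Algebra.smul_def, mul_one] at h4
    exact Ideal.Quotient.eq_zero_iff_mem.1 h4
  · refine Ideal.subset_span ⟨1, fun _ => 1, fun _ _ => r, hx, fun i _ => ?_, ?_⟩
    · rw [Fin.sum_univ_one, Algebra.smul_def, mul_one]
      exact Ideal.Quotient.eq_zero_iff_mem.2 hr
    · simp

theorem ideal_zero_eq {R : Type u} [CommRing R] (M : Type u) [AddCommGroup M] [Module R M] :
    FlatCA.fittingZero R M = Fitt.ideal R M 0 := by
  refine congrArg Ideal.span (Set.ext fun d => ⟨?_, ?_⟩)
  · rintro ⟨n, x, a, h1, h2, h3⟩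
    exact ⟨n, x, a, h1, fun i _ => h2 i, h3⟩
  · rintro ⟨n, x, a, h1, h2, h3⟩
    exact ⟨n, x, a, h1, fun i => h2 i (by simp), h3⟩

/-- A quotient of a ring is the product of the quotients cut out by complementary idempotents. -/
noncomputable def splitEquiv {B T : Type u} [CommRing B] [CommRing T] [Algebra B T] (J : Ideal T) {e : T}
    (he : IsIdempotentElem e) :
    (T ⧸ J) ≃ₗ[B] (T ⧸ (J ⊔ Ideal.span {e})) × (T ⧸ (J ⊔ Ideal.span {1 - e})) :=
  LinearEquiv.ofBijective
    ((Ideal.Quotient.factorₐ B le_sup_left).toLinearMap.prod (Ideal.Quotient.factorₐ B le_sup_left).toLinearMap) (by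
    have hmem : ∀ {f x : T}, IsIdempotentElem f → x ∈ J ⊔ Ideal.span {f} → (1 - f) * x ∈ J := by
      intro f x hf hx
      obtain ⟨j, hj, y, hy, rfl⟩ := Submodule.mem_sup.1 hx
      obtain ⟨z, rfl⟩ := Ideal.mem_span_singleton.1 hy
      have : (1 - f) * (j + f * z) = (1 - f) * j + (f - f * f) * z := by ring
      rw [this, hf.eq, sub_self, zero_mul, add_zero]
      exact Ideal.mul_mem_left _ _ hj
    refine ⟨(injective_iff_map_eq_zero _).2 fun q hq => ?_, fun p => ?_⟩
    · obtain ⟨x, rfl⟩ := Ideal.Quotient.mk_surjective q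
      replace hq := Prod.ext_iff.1 hq
      have h1 : x ∈ J ⊔ Ideal.span {e} := Ideal.Quotient.eq_zero_iff_mem.1 hq.1
      have h2 : x ∈ J ⊔ Ideal.span {1 - e} := Ideal.Quotient.eq_zero_iff_mem.1 hq.2
      refine Ideal.Quotient.eq_zero_iff_mem.2 ?_
      have h3 := J.add_mem (hmem he h1) (hmem he.one_sub h2)
      rwa [show (1 - e) * x + (1 - (1 - e)) * x = x by ring] at h3
    · obtain ⟨a, ha⟩ := Ideal.Quotient.mk_surjective p.1
      obtain ⟨b, hb⟩ := Ideal.Quotient.mk_surjective p.2
      refine ⟨Ideal.Quotient.mk J ((1 - e) * a + e * b), Prod.ext ?_ ?_⟩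
      · show Ideal.Quotient.mk _ _ = p.1
        rw [← ha, Ideal.Quotient.eq]
        refine le_sup_right (a := J) ?_
        exact Ideal.mem_span_singleton.2 ⟨b - a, by ring⟩
      · show Ideal.Quotient.mk _ _ = p.2
        rw [← hb, Ideal.Quotient.eq]
        refine le_sup_right (a := J) ?_
        exact Ideal.mem_span_singleton.2 ⟨a - b, by ring⟩)

variable {A C : Type u} [CommRing A] [CommRing C] [Algebra A C]
variable (B : Type u) [CommRing B] [Algebra A B] [Algebra C B] [IsScalarTower A C B]

/-- The multiplication map `B ⊗ C → B`. -/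
noncomputable def mulMap : B ⊗[A] C →ₐ[B] B :=
  Algebra.TensorProduct.lift (AlgHom.id B B) (IsScalarTower.toAlgHom A C B) fun _ _ => Commute.all _ _

theorem mulMap_tmul (b : B) (c : C) : mulMap B (b ⊗ₜ[A] c) = b * algebraMap C B c := by
  simp [mulMap]

theorem mulMap_surjective : Function.Surjective (mulMap (A := A) (C := C) B) :=
  fun b => ⟨b ⊗ₜ 1, by rw [mulMap_tmul, map_one, mul_one]⟩

theorem one_tmul_sub_mem (c : C) :
    (1 : B) ⊗ₜ[A] c - (algebraMap C B c) ⊗ₜ[A] (1 : C) ∈ RingHom.ker (mulMap (A := A) (C := C) B) := by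
  rw [RingHom.mem_ker, map_sub, mulMap_tmul, mulMap_tmul, one_mul, map_one, mul_one, sub_self]

theorem ker_fg [Module.Finite A C] : (RingHom.ker (mulMap (A := A) (C := C) B)).FG := by
  classical
  obtain ⟨n, x, hx⟩ := Module.Finite.exists_fin (R := A) (M := C)
  let g : Fin n → B ⊗[A] C := fun i => (1 : B) ⊗ₜ[A] x i - (algebraMap C B (x i)) ⊗ₜ[A] (1 : C)
  refine ⟨Finset.univ.image g, le_antisymm ?_ ?_⟩
  · refine Ideal.span_le.2 ?_
    rintro t ht
    obtain ⟨i, -, rfl⟩ := Finset.mem_image.1 (Finset.mem_coe.1 ht)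
    exact one_tmul_sub_mem B (x i)
  · intro t ht
    set S : Submodule (B ⊗[A] C) (B ⊗[A] C) :=
      Submodule.span (B ⊗[A] C) (↑(Finset.univ.image g) : Set (B ⊗[A] C)) with hS
    have hc : ∀ c : C, (1 : B) ⊗ₜ[A] c - (algebraMap C B c) ⊗ₜ[A] (1 : C) ∈ S := fun c => by
      obtain ⟨r, rfl⟩ := (Submodule.mem_span_range_iff_exists_fun A).1
        (hx ▸ Submodule.mem_top : c ∈ Submodule.span A (Set.range x))
      rw [map_sum, TensorProduct.tmul_sum, TensorProduct.sum_tmul, ← Finset.sum_sub_distrib]
      refine Submodule.sum_mem _ fun i _ => ?_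
      have hs : algebraMap C B (r i • x i) = r i • algebraMap C B (x i) :=
        map_smul (IsScalarTower.toAlgHom A C B) (r i) (x i)
      rw [TensorProduct.tmul_smul, hs, ← TensorProduct.smul_tmul', ← smul_sub]
      exact Submodule.smul_of_tower_mem _ _ (Submodule.subset_span (Finset.mem_image_of_mem g (Finset.mem_univ i)))
    have key : ∀ s : B ⊗[A] C, s - mulMap B s ⊗ₜ[A] (1 : C) ∈ S := fun s => by
      induction s using TensorProduct.induction_on with
      | zero => simp
      | tmul b c =>
        have := Submodule.smul_mem S (b ⊗ₜ[A] (1 : C)) (hc c)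
        rwa [smul_eq_mul, mul_sub, Algebra.TensorProduct.tmul_mul_tmul, Algebra.TensorProduct.tmul_mul_tmul,
          mul_one, one_mul, mul_one, ← mulMap_tmul (A := A)] at this
      | add s t hs ht =>
        rw [map_add, TensorProduct.add_tmul, add_sub_add_comm]
        exact add_mem hs ht
    have := key t
    rwa [RingHom.mem_ker.1 ht, TensorProduct.zero_tmul, sub_zero] at this

theorem ker_isIdempotent (h : C) [IsLocalization.Away h B] [Algebra.FormallyUnramified A B] :
    IsIdempotentElem (RingHom.ker (mulMap (A := A) (C := C) B)) := by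
  set K := RingHom.ker (mulMap (A := A) (C := C) B)
  refine le_antisymm Ideal.mul_le_left fun t ht => ?_
  let q : B ⊗[A] C →ₐ[A] (B ⊗[A] C) ⧸ (K * K) := Ideal.Quotient.mkₐ A (K * K)
  let γ : C →ₐ[A] (B ⊗[A] C) ⧸ (K * K) := q.comp Algebra.TensorProduct.includeRight
  let f : B →ₐ[A] (B ⊗[A] C) ⧸ (K * K) := q.comp Algebra.TensorProduct.includeLeft
  have hN : IsNilpotent (K.map (Ideal.Quotient.mk (K * K))) := ⟨2, by
    rw [← Ideal.map_pow, pow_two, Ideal.map_quotient_self]; rfl⟩
  have hu : IsUnit (γ h) := by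
    have h1 : IsUnit (f (algebraMap C B h)) := (IsLocalization.Away.algebraMap_isUnit h).map f
    have h2 : IsNilpotent (γ h - f (algebraMap C B h)) := by
      refine ⟨2, ?_⟩
      show (Ideal.Quotient.mk (K * K) _ - Ideal.Quotient.mk (K * K) _) ^ 2 = 0
      rw [← map_sub, ← map_pow, Ideal.Quotient.eq_zero_iff_mem, pow_two]
      exact Ideal.mul_mem_mul (one_tmul_sub_mem B h) (one_tmul_sub_mem B h)
    have := h2.isUnit_add_left_of_commute h1 (Commute.all _ _)
    rwa [add_sub_cancel] at this
  let g₀ : B →+* (B ⊗[A] C) ⧸ (K * K) := IsLocalization.Away.lift h (g := γ.toRingHom) hu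
  let g : B →ₐ[A] (B ⊗[A] C) ⧸ (K * K) :=
    { g₀ with
      commutes' := fun a => by
        show g₀ (algebraMap A B a) = _
        rw [IsScalarTower.algebraMap_apply A C B]
        exact (IsLocalization.Away.lift_eq h hu _).trans (γ.commutes a) }
  have hgc : ∀ c, g (algebraMap C B c) = γ c := fun c => IsLocalization.Away.lift_eq h hu c
  have hfg : f = g := by
    refine Algebra.FormallyUnramified.ext (I := K.map (Ideal.Quotient.mk (K * K))) hN fun b => ?_
    let ρ : B →+* ((B ⊗[A] C) ⧸ (K * K)) ⧸ K.map (Ideal.Quotient.mk (K * K)) :=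
      (Ideal.Quotient.mk _).comp f.toRingHom
    let ρ' : B →+* ((B ⊗[A] C) ⧸ (K * K)) ⧸ K.map (Ideal.Quotient.mk (K * K)) :=
      (Ideal.Quotient.mk _).comp g.toRingHom
    have : ρ = ρ' := IsLocalization.ringHom_ext (Submonoid.powers h) (RingHom.ext fun c => by
      show Ideal.Quotient.mk _ (f (algebraMap C B c)) = Ideal.Quotient.mk _ (g (algebraMap C B c))
      rw [hgc]
      refine (Ideal.Quotient.eq.2 ?_).symm
      show Ideal.Quotient.mk (K * K) _ - Ideal.Quotient.mk (K * K) _ ∈ _
      rw [← map_sub]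
      exact Ideal.mem_map_of_mem _ (one_tmul_sub_mem B c))
    exact RingHom.congr_fun this b
  have key : ∀ s : B ⊗[A] C, q s = f (mulMap B s) := fun s => by
    induction s using TensorProduct.induction_on with
    | zero => simp
    | tmul b c =>
      rw [mulMap_tmul, map_mul]
      conv_rhs => arg 2; rw [hfg, hgc]
      show q _ = q _ * q _
      rw [← map_mul]
      congr 1
      show _ = (b ⊗ₜ[A] (1 : C)) * ((1 : B) ⊗ₜ[A] c)
      rw [Algebra.TensorProduct.tmul_mul_tmul, mul_one, one_mul]
    | add s t hs ht => simp only [map_add, hs, ht]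
  have h0 := key t
  rw [RingHom.mem_ker.1 ht, map_zero] at h0
  exact Ideal.Quotient.eq_zero_iff_mem.1 h0

theorem exists_factor [Module.Finite A C] [Module.Projective A C] (h : C) [IsLocalization.Away h B]
    [Algebra.FormallyUnramified A B] (J : Ideal C) :
    ∃ J' : Ideal B, (FlatCA.fittingZero A (C ⧸ J)).map (algebraMap A B) = J.map (algebraMap C B) * J' ∧
      (J.FG → (FlatCA.fittingZero A (C ⧸ J)).FG ∧ J'.FG) := by
  obtain ⟨e, he, hK⟩ := (Ideal.isIdempotentElem_iff_of_fg _ (ker_fg (A := A) (C := C) B)).1 (ker_isIdempotent B h)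
  let JT : Ideal (B ⊗[A] C) := J.map (Algebra.TensorProduct.includeRight : C →ₐ[A] B ⊗[A] C)
  let T₂ := (B ⊗[A] C) ⧸ (JT ⊔ Ideal.span {1 - e})
  haveI : Module.Finite B T₂ := Module.Finite.of_surjective (Ideal.Quotient.mkₐ B _).toLinearMap Ideal.Quotient.mk_surjective
  haveI : Module.Finite A (C ⧸ J) := Module.Finite.of_surjective (Ideal.Quotient.mkₐ A J).toLinearMap Ideal.Quotient.mk_surjective
  refine ⟨Fitt.ideal B T₂ 0, ?_, fun hJ => ⟨?_, ?_⟩⟩
  · have hsurj : Function.Surjective ((Ideal.Quotient.mkₐ B (J.map (algebraMap C B))).comp (mulMap (A := A) (C := C) B)) :=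
      Ideal.Quotient.mk_surjective.comp (mulMap_surjective B)
    have hker : RingHom.ker ((Ideal.Quotient.mkₐ B (J.map (algebraMap C B))).comp (mulMap (A := A) (C := C) B)) =
        JT ⊔ Ideal.span {e} := by
      have h1 : JT.map (mulMap (A := A) (C := C) B) = J.map (algebraMap C B) := by
        have hc : (mulMap (A := A) (C := C) B).toRingHom.comp
            (Algebra.TensorProduct.includeRight : C →ₐ[A] B ⊗[A] C).toRingHom = algebraMap C B :=
          RingHom.ext fun c => (mulMap_tmul B 1 c).trans (one_mul _)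
        rw [← hc, ← Ideal.map_map]
        rfl
      ext t
      rw [RingHom.mem_ker]
      have hK' : Ideal.span {e} = RingHom.ker (mulMap (A := A) (C := C) B) := hK.symm
      rw [hK']
      show Ideal.Quotient.mk _ (mulMap B t) = 0 ↔ _
      rw [Ideal.Quotient.eq_zero_iff_mem, ← h1, ← Ideal.mem_comap,
        Ideal.comap_map_of_surjective _ (mulMap_surjective B)]
      rfl
    let e₁ : ((B ⊗[A] C) ⧸ (JT ⊔ Ideal.span {e})) ≃ₗ[B] (B ⧸ J.map (algebraMap C B)) :=
      ((Ideal.quotientEquivAlgOfEq B hker.symm).trans (Ideal.quotientKerAlgEquivOfSurjective hsurj)).toLinearEquiv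
    let eM : B ⊗[A] (C ⧸ J) ≃ₗ[B] (B ⧸ J.map (algebraMap C B)) × T₂ :=
      (Algebra.TensorProduct.tensorQuotientEquiv (R := A) B C B J).toLinearEquiv.trans
        ((splitEquiv JT he).trans (e₁.prodCongr (LinearEquiv.refl B T₂)))
    rw [ideal_zero_eq, ← Groth.L13.Fitting.ideal_baseChange B 0, Groth.L13.Fitting.ideal_congr eM 0,
      Groth.L13.Fitting.ideal_prod 0]
    simp [fitting_quotient]
  · haveI : Module.FinitePresentation A C := Module.finitePresentation_of_projective A C
    have hJA : (J.restrictScalars A).FG := Submodule.FG.restrictScalars hJ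
    haveI : Module.FinitePresentation A (C ⧸ J) :=
      Module.finitePresentation_of_surjective (Ideal.Quotient.mkₐ A J).toLinearMap Ideal.Quotient.mk_surjective (by
        have : LinearMap.ker (Ideal.Quotient.mkₐ A J).toLinearMap = J.restrictScalars A :=
          Submodule.ext fun x => Ideal.Quotient.eq_zero_iff_mem
        rwa [this])
    rw [ideal_zero_eq]
    exact Groth.L13.Fitting.ideal_fg_of_finitePresentation 0
  · haveI : Module.FinitePresentation A C := Module.finitePresentation_of_projective A C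
    have hI : (JT ⊔ Ideal.span {1 - e}).FG := Submodule.FG.sup (hJ.map _) (Submodule.fg_span_singleton _)
    haveI : Module.FinitePresentation B T₂ :=
      Module.finitePresentation_of_surjective (Ideal.Quotient.mkₐ B (JT ⊔ Ideal.span {1 - e})).toLinearMap
        Ideal.Quotient.mk_surjective (by
        have : LinearMap.ker (Ideal.Quotient.mkₐ B (JT ⊔ Ideal.span {1 - e})).toLinearMap =
            (JT ⊔ Ideal.span {1 - e}).restrictScalars B :=
          Submodule.ext fun x => Ideal.Quotient.eq_zero_iff_mem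
        rw [this]
        exact Submodule.FG.restrictScalars hI)
    exact Groth.L13.Fitting.ideal_fg_of_finitePresentation 0

end Groth.L15.FittEtale
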