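import Groth.Agent.L15.FittEtale.Main
import Mathlib.RingTheory.Unramified.LocalStructure
import Mathlib.RingTheory.Etale.StandardEtale

/-!
Locally on an étale algebra, an ideal divides the extension of an ideal of the base with the same radical bound.
-/

set_option autoImplicit false
set_option linter.style.haveILetI false
universe u

namespace Groth.L15.FittEtale

theorem pow_mem_fittingZero {A C : Type u} [CommRing A] [CommRing C] [Algebra A C] [Module.Finite A C] (J : Ideal C)
    (a : A) (N : ℕ) (ha : algebraMap A C a ^ N ∈ J) : ∃ d : ℕ, a ^ d ∈ FlatCA.fittingZero A (C ⧸ J) := by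
  haveI : Module.Finite A (C ⧸ J) :=
    Module.Finite.of_surjective (Ideal.Quotient.mkₐ A J).toLinearMap Ideal.Quotient.mk_surjective
  obtain ⟨d, x, hx⟩ := Module.Finite.exists_fin (R := A) (M := C ⧸ J)
  refine ⟨N * d, Ideal.subset_span ⟨d, x, Matrix.diagonal fun _ => a ^ N, hx, fun i => ?_, ?_⟩⟩
  · rw [Finset.sum_eq_single i (fun j _ hj => by rw [Matrix.diagonal_apply_ne' _ hj, zero_smul])
      (fun h => absurd (Finset.mem_univ i) h), Matrix.diagonal_apply_eq]
    obtain ⟨c, hc⟩ := Ideal.Quotient.mk_surjective (x i)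
    rw [← hc, ← Ideal.Quotient.mkₐ_eq_mk A, ← map_smul, Ideal.Quotient.mkₐ_eq_mk, Ideal.Quotient.eq_zero_iff_mem,
      Algebra.smul_def, map_pow]
    exact Ideal.mul_mem_right _ _ ha
  · simp [Matrix.det_diagonal, pow_mul]

theorem exists_standard {A B : Type u} [CommRing A] [CommRing B] [Algebra A B] [Algebra.Etale A B] (q : Ideal B)
    [q.IsPrime] :
    ∃ (g : B) (_ : g ∉ q) (C : Type u) (_ : CommRing C) (_ : Algebra A C) (_ : Algebra C (Localization.Away g)) (h : C),
      IsScalarTower A C (Localization.Away g) ∧ IsLocalization.Away h (Localization.Away g) ∧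
      Module.Finite A C ∧ Module.Projective A C ∧ Algebra.FormallyUnramified A (Localization.Away g) := by
  haveI : Algebra.IsEtaleAt A q :=
    haveI := Algebra.FormallyEtale.of_isLocalization (R := B) (Rₘ := Localization.AtPrime q) q.primeCompl
    Algebra.FormallyEtale.comp A B (Localization.AtPrime q)
  obtain ⟨g, hg, hstd⟩ := Algebra.IsEtaleAt.exists_isStandardEtale (R := A) q
  obtain ⟨P⟩ := hstd.nonempty_standardEtalePresentation
  let e := P.equivRing.trans P.equivAwayAdjoinRoot
  letI : Algebra (AdjoinRoot P.f) (Localization.Away g) :=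
    (e.symm.toAlgHom.comp (IsScalarTower.toAlgHom A (AdjoinRoot P.f) _)).toRingHom.toAlgebra
  haveI htow : IsScalarTower A (AdjoinRoot P.f) (Localization.Away g) :=
    IsScalarTower.of_algebraMap_eq fun a =>
      ((e.symm.toAlgHom.comp (IsScalarTower.toAlgHom A (AdjoinRoot P.f) _)).commutes a).symm
  haveI hloc := IsLocalization.isLocalization_of_algEquiv (R := AdjoinRoot P.f) (.powers (.mk _ P.g))
    { toRingEquiv := e.symm.toRingEquiv, commutes' := by simp [RingHom.algebraMap_toAlgebra] }
  haveI := P.monic_f.free_adjoinRoot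
  exact ⟨g, hg, AdjoinRoot P.f, inferInstance, inferInstance, inferInstance, .mk _ P.g, htow, hloc,
    P.monic_f.finite_adjoinRoot, inferInstance, inferInstance⟩

theorem exists_norm {A B : Type u} [CommRing A] [CommRing B] [Algebra A B] [Algebra.Etale A B]
    (a : A) (J : Ideal B) (hJ : J.FG) (hJa : algebraMap A B a ∈ J.radical) (q : Ideal B) [q.IsPrime] :
    ∃ (I : Ideal A) (g : B) (J' : Ideal (Localization.Away g)), I.FG ∧ a ∈ I.radical ∧ g ∉ q ∧ J'.FG ∧
      I.map (algebraMap A (Localization.Away g)) = J.map (algebraMap B (Localization.Away g)) * J' := by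
  classical
  obtain ⟨g, hg, C, _, _, _, h, _, _, _, _, _⟩ := exists_standard (A := A) q
  obtain ⟨N, hN⟩ := hJa
  obtain ⟨s, hs⟩ := hJ.map (algebraMap B (Localization.Away g))
  choose c hc using fun x : Localization.Away g => IsLocalization.Away.surj h x
  choose m hm using hc
  let JC : Ideal C := Ideal.span (↑(s.image m) ∪ {algebraMap A C a ^ N})
  have hJC : JC.map (algebraMap C (Localization.Away g)) = J.map (algebraMap B (Localization.Away g)) := by
    rw [← hs]
    refine le_antisymm (Ideal.map_le_iff_le_comap.2 (Ideal.span_le.2 ?_)) (Ideal.span_le.2 fun x hx => ?_)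
    · rintro y (hy | rfl)
      · obtain ⟨x, hx, rfl⟩ := Finset.mem_image.1 (Finset.mem_coe.1 hy)
        show algebraMap C _ (m x) ∈ Ideal.span _
        rw [← hm x]
        exact Ideal.mul_mem_right _ _ (Ideal.subset_span hx)
      · show algebraMap C _ (algebraMap A C a ^ N) ∈ Ideal.span _
        rw [map_pow, ← IsScalarTower.algebraMap_apply, IsScalarTower.algebraMap_apply A B (Localization.Away g),
          ← map_pow]
        exact hs.ge (Ideal.mem_map_of_mem _ hN)
    · have h1 : algebraMap C (Localization.Away g) (m x) ∈ JC.map (algebraMap C (Localization.Away g)) :=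
        Ideal.mem_map_of_mem _ (Ideal.subset_span (Or.inl (Finset.mem_coe.2 (Finset.mem_image_of_mem m hx))))
      rw [← hm x] at h1
      exact (Ideal.mul_unit_mem_iff_mem _ ((IsLocalization.Away.algebraMap_isUnit (S := Localization.Away g) h).pow (c x))).1 h1
  have hfg : JC.FG := Submodule.fg_span ((s.image m).finite_toSet.union (Set.finite_singleton _))
  obtain ⟨J', h1, h2⟩ := exists_factor (A := A) (Localization.Away g) h JC
  obtain ⟨d, hd⟩ := pow_mem_fittingZero (A := A) JC a N (Ideal.subset_span (Or.inr rfl))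
  exact ⟨FlatCA.fittingZero A (C ⧸ JC), g, J', (h2 hfg).1, ⟨d, hd⟩, hg, (h2 hfg).2, hJC ▸ h1⟩

end Groth.L15.FittEtale
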